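import Groth.Agent.Lie3Mod.K752.Poly
import Mathlib.RingTheory.Ideal.Colon

/-!
# The Jacobi ideal of based three-dimensional Lie algebras: regular sequences and colon ideals
-/

set_option autoImplicit false

namespace K752.Core

open K752.Poly Lie3Mod

section stable

open Polynomial

variable {R : Type*} [CommRing R]

/-- `I` is stable under `ψ`. -/
def Stable (ψ : R →+* R[X]) (I : Ideal R) : Prop := I ≤ (I.map (C : R →+* R[X])).comap ψ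

theorem stable_bot (ψ : R →+* R[X]) : Stable ψ ⊥ := bot_le

/-- `I + (x)` -/
abbrev adj (I : Ideal R) (x : R) : Ideal R := I ⊔ Ideal.span {x}

theorem Stable.sup_of_mem {ψ : R →+* R[X]} {I : Ideal R} (h : Stable ψ I) {x : R}
    (hx : ψ x - C x ∈ I.map (C : R →+* R[X])) : Stable ψ (adj I x) := by
  refine sup_le (h.trans (Ideal.comap_mono (Ideal.map_mono le_sup_left))) ?_
  rw [Ideal.span_singleton_le_iff_mem, Ideal.mem_comap]
  have e : ψ x = (ψ x - C x) + C x := by ring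
  rw [e]
  refine Ideal.add_mem _ (Ideal.map_mono le_sup_left hx) ?_
  exact Ideal.mem_map_of_mem _ (Ideal.mem_sup_right (Ideal.mem_span_singleton_self x))

theorem Stable.sup {ψ : R →+* R[X]} {I : Ideal R} (h : Stable ψ I) {x : R}
    (hx : ψ x = C x) : Stable ψ (adj I x) := by
  refine h.sup_of_mem ?_
  rw [hx, sub_self]
  exact Ideal.zero_mem _

theorem mem_adj_self {I : Ideal R} {x : R} : x ∈ adj I x :=
  Ideal.mem_sup_right (Ideal.mem_span_singleton_self x)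

theorem mem_adj_of_mem {I : Ideal R} {x y : R} (h : y ∈ I) : y ∈ adj I x :=
  Ideal.mem_sup_left h

theorem adj_right_comm (I : Ideal R) (x y : R) : adj (adj I x) y = adj (adj I y) x := by
  simp only [adj]
  exact sup_right_comm _ _ _

theorem mem_adj {I : Ideal R} {x u : R} : u ∈ adj I x ↔ ∃ v : R, u - v * x ∈ I := mem_sup_span

theorem swap {I : Ideal R} {x y : R} (h1 : NZD I x) (h2 : NZD (adj I x) y) : NZD (adj I y) x :=
  NZD.swap h1 h2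

end stable

section main

/-- direction vectors -/
def ev (k : Fin 9) : Fin 9 → ℤ := fun j => if j = k then 1 else 0

variable {A : Type*} [CommRing A]

theorem nzd_of_psi (k : Fin 9) (c : Fin 9 → ℤ) {I : Ideal (D A)} (hI : Stable (psi A k c) I)
    (s r : D A) {y : D A}
    (hy : psi A k c y = Polynomial.C s * Polynomial.X + Polynomial.C r) (h1 : NZD I s) : NZD I y :=
  nzd_of_poly (psi A k c) _ (psi_eval A k c) I hI s r y hy h1

macro "psi_tac" : tactic => `(tactic| (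
  simp only [L1, L2, L3, Q1, Q2, Q3, detM, map_add, map_sub, map_mul, map_neg, map_pow, map_one,
    map_zero, psi_X, ev, Fin.isValue, Fin.reduceEq, if_true, if_false, Int.cast_one, Int.cast_zero,
    one_mul, zero_mul, add_zero] <;> ring))

theorem nzd_L1 : NZD (⊥ : Ideal (D A)) (L1 A) :=
  nzd_of_psi 0 (ev 0) (stable_bot _) 1 (-vi) (by psi_tac) (nzd_one _)

theorem nzd_L2 : NZD (⊥ : Ideal (D A)) (L2 A) :=
  nzd_of_psi 1 (ev 1) (stable_bot _) 1 vf (by psi_tac) (nzd_one _)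

theorem nzd_L3 : NZD (⊥ : Ideal (D A)) (L3 A) :=
  nzd_of_psi 3 (ev 3) (stable_bot _) 1 vh (by psi_tac) (nzd_one _)

theorem nzd_L1_L2 : NZD (adj ⊥ (L1 A)) (L2 A) :=
  nzd_of_psi 1 (ev 1) ((stable_bot _).sup (by psi_tac)) 1 vf (by psi_tac) (nzd_one _)

theorem nzd_L1_L3 : NZD (adj ⊥ (L1 A)) (L3 A) :=
  nzd_of_psi 3 (ev 3) ((stable_bot _).sup (by psi_tac)) 1 vh (by psi_tac) (nzd_one _)

theorem nzd_L3_L1 : NZD (adj ⊥ (L3 A)) (L1 A) :=
  nzd_of_psi 0 (ev 0) ((stable_bot _).sup (by psi_tac)) 1 (-vi) (by psi_tac) (nzd_one _)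

theorem nzd_L3_L2 : NZD (adj ⊥ (L3 A)) (L2 A) :=
  nzd_of_psi 1 (ev 1) ((stable_bot _).sup (by psi_tac)) 1 vf (by psi_tac) (nzd_one _)

theorem nzd_L1L2_L3 : NZD (adj (adj ⊥ (L1 A)) (L2 A)) (L3 A) :=
  nzd_of_psi 3 (ev 3) (((stable_bot _).sup (by psi_tac)).sup (by psi_tac)) 1 vh (by psi_tac)
    (nzd_one _)

theorem nzd_L1L3_L2 : NZD (adj (adj ⊥ (L1 A)) (L3 A)) (L2 A) :=
  nzd_of_psi 1 (ev 1) (((stable_bot _).sup (by psi_tac)).sup (by psi_tac)) 1 vf (by psi_tac)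
    (nzd_one _)

theorem nzd_L3L1_L2 : NZD (adj (adj ⊥ (L3 A)) (L1 A)) (L2 A) :=
  nzd_of_psi 1 (ev 1) (((stable_bot _).sup (by psi_tac)).sup (by psi_tac)) 1 vf (by psi_tac)
    (nzd_one _)

/-! ### The regular sequence Q1, Q2, Q3 -/

theorem nzd_Q1_of {I : Ideal (D A)} (hI : Stable (psi A 6 (ev 6)) I) (h : NZD I (L2 A)) :
    NZD I (Q1 A) :=
  nzd_of_psi 6 (ev 6) hI (-L2 A) (va * vh + vd * vi) (by psi_tac) h.neg

theorem nzd_Q2_of {I : Ideal (D A)} (hI : Stable (psi A 4 (ev 4)) I) (h : NZD I (L1 A)) :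
    NZD I (Q2 A) :=
  nzd_of_psi 4 (ev 4) hI (-L1 A) (vb * vd - vf * vh) (by psi_tac) h.neg

theorem nzd_Q3_of {I : Ideal (D A)} (hI : Stable (psi A 2 (ev 2)) I) (h : NZD I (L3 A)) :
    NZD I (Q3 A) :=
  nzd_of_psi 2 (ev 2) hI (L3 A) (-(va * vf) - vb * vi) (by psi_tac) h

theorem nzd_Q1 : NZD (⊥ : Ideal (D A)) (Q1 A) := nzd_Q1_of (stable_bot _) nzd_L2

theorem nzd_L1_Q1 : NZD (adj ⊥ (L1 A)) (Q1 A) :=
  nzd_Q1_of ((stable_bot _).sup (by psi_tac)) nzd_L1_L2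

theorem nzd_L3_Q1 : NZD (adj ⊥ (L3 A)) (Q1 A) :=
  nzd_Q1_of ((stable_bot _).sup (by psi_tac)) nzd_L3_L2

theorem nzd_L3L1_Q1 : NZD (adj (adj ⊥ (L3 A)) (L1 A)) (Q1 A) :=
  nzd_Q1_of (((stable_bot _).sup (by psi_tac)).sup (by psi_tac)) nzd_L3L1_L2

theorem nzd_L1L3_Q1 : NZD (adj (adj ⊥ (L1 A)) (L3 A)) (Q1 A) :=
  nzd_Q1_of (((stable_bot _).sup (by psi_tac)).sup (by psi_tac)) nzd_L1L3_L2

theorem nzd_Q1_L1 : NZD (adj ⊥ (Q1 A)) (L1 A) := swap nzd_L1 nzd_L1_Q1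

theorem nzd_Q1_Q2 : NZD (adj ⊥ (Q1 A)) (Q2 A) :=
  nzd_Q2_of ((stable_bot _).sup (by psi_tac)) nzd_Q1_L1

theorem nzd_L3Q1_L1 : NZD (adj (adj ⊥ (L3 A)) (Q1 A)) (L1 A) := swap nzd_L3_L1 nzd_L3L1_Q1

theorem nzd_L3Q1_Q2 : NZD (adj (adj ⊥ (L3 A)) (Q1 A)) (Q2 A) :=
  nzd_Q2_of (((stable_bot _).sup (by psi_tac)).sup (by psi_tac)) nzd_L3Q1_L1

theorem nzd_Q1_L3 : NZD (adj ⊥ (Q1 A)) (L3 A) := swap nzd_L3 nzd_L3_Q1

theorem nzd_Q1L3_Q2 : NZD (adj (adj ⊥ (Q1 A)) (L3 A)) (Q2 A) := by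
  rw [adj_right_comm]
  exact nzd_L3Q1_Q2

theorem nzd_Q1Q2_L3 : NZD (adj (adj ⊥ (Q1 A)) (Q2 A)) (L3 A) := swap nzd_Q1_L3 nzd_Q1L3_Q2

theorem nzd_Q1Q2_Q3 : NZD (adj (adj ⊥ (Q1 A)) (Q2 A)) (Q3 A) :=
  nzd_Q3_of (((stable_bot _).sup (by psi_tac)).sup (by psi_tac)) nzd_Q1Q2_L3

/-! ### `detM` is a non-zero-divisor modulo `(L1, L2, L3)` -/

theorem nzd_L_detM : NZD (adj (adj (adj ⊥ (L1 A)) (L2 A)) (L3 A)) (detM A) := by
  have hc : NZD (adj (adj (adj ⊥ (L1 A)) (L2 A)) (L3 A)) (vc : D A) :=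
    nzd_of_psi 2 (ev 2)
      ((((stable_bot _).sup (by psi_tac)).sup (by psi_tac)).sup (by psi_tac)) 1 0 (by psi_tac)
      (nzd_one _)
  have hg : NZD (adj (adj (adj ⊥ (L1 A)) (L2 A)) (L3 A)) (vi ^ 2 - vg * vc : D A) :=
    nzd_of_psi 6 (ev 6)
      ((((stable_bot _).sup (by psi_tac)).sup (by psi_tac)).sup (by psi_tac)) (-vc) (vi ^ 2)
      (by psi_tac) hc.neg
  exact nzd_of_psi 4 (ev 4)
      ((((stable_bot _).sup (by psi_tac)).sup (by psi_tac)).sup (by psi_tac)) (vi ^ 2 - vg * vc)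
      (-(vc * vh ^ 2) + vg * vb * vf + vh * vb * vi - vi * vh * vf) (by psi_tac) hg

/-! ### The colon ideal `(I : L1)` -/

theorem nzd_L1Q1_L3 : NZD (adj (adj ⊥ (L1 A)) (Q1 A)) (L3 A) := swap nzd_L1_L3 nzd_L1L3_Q1

theorem nzd_L1Q1_Q3 : NZD (adj (adj ⊥ (L1 A)) (Q1 A)) (Q3 A) :=
  nzd_Q3_of (((stable_bot _).sup (by psi_tac)).sup (by psi_tac)) nzd_L1Q1_L3

theorem nzd_L1L2_i : NZD (adj (adj ⊥ (L1 A)) (L2 A)) (vi : D A) :=
  nzd_of_psi 8 (fun j => ev 8 j + ev 0 j)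
    (((stable_bot _).sup (by psi_tac)).sup (by psi_tac)) 1 0 (by psi_tac) (nzd_one _)

theorem nzd_L1L2i_c : NZD (adj (adj (adj ⊥ (L1 A)) (L2 A)) (vi : D A)) (vc : D A) :=
  nzd_of_psi 2 (ev 2)
    ((((stable_bot _).sup (by psi_tac)).sup (by psi_tac)).sup (by psi_tac)) 1 0 (by psi_tac)
    (nzd_one _)

/-- the maximal minor `g c - i^2` -/
noncomputable def dl : D A := vg * vc - vi ^ 2

/-- `w L2 ∈ (L1, Q1, Q3)` implies `w ∈ (L1, Q1, Q3, gc - i^2)`. -/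
theorem colon_L2 (w : D A) (hw : w * L2 A ∈ adj (adj (adj ⊥ (L1 A)) (Q1 A)) (Q3 A)) :
    w ∈ adj (adj (adj (adj ⊥ (L1 A)) (Q1 A)) (Q3 A)) (dl (A := A)) := by
  obtain ⟨β, hβ⟩ := mem_adj.1 hw
  obtain ⟨α, hα⟩ := mem_adj.1 hβ
  -- w L2 - β Q3 - α Q1 ∈ (L1)
  have h1 : (α * vi + β * vc) * L3 A ∈ adj (adj ⊥ (L1 A)) (L2 A) := by
    refine mem_adj.2 ⟨w + β * vi + α * vg, ?_⟩
    have e : (α * vi + β * vc) * L3 A - (w + β * vi + α * vg) * L2 A =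
        -(w * L2 A - β * Q3 A - α * Q1 A) - (α * vh - β * vf) * L1 A := by
      simp only [L1, L2, L3, Q1, Q3]; ring
    rw [e]
    exact Ideal.sub_mem _ (neg_mem hα) (Ideal.mul_mem_left _ _ mem_adj_self)
  have h2 : α * vi + β * vc ∈ adj (adj ⊥ (L1 A)) (L2 A) := nzd_L1L2_L3 _ h1
  have h3 : β ∈ adj (adj (adj ⊥ (L1 A)) (L2 A)) (vi : D A) := by
    apply nzd_L1L2i_c
    refine mem_adj.2 ⟨-α, ?_⟩
    have e : β * vc - -α * vi = α * vi + β * vc := by ring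
    rwa [e]
  obtain ⟨γ, hγ⟩ := mem_adj.1 h3
  have h4 : α + γ * vc ∈ adj (adj ⊥ (L1 A)) (L2 A) := by
    apply nzd_L1L2_i
    have e : (α + γ * vc) * vi = (α * vi + β * vc) - (β - γ * vi) * vc := by ring
    rw [e]
    exact Ideal.sub_mem _ h2 (Ideal.mul_mem_right _ _ hγ)
  obtain ⟨β', hβ'⟩ := mem_adj.1 hγ
  obtain ⟨α', hα'⟩ := mem_adj.1 h4
  -- β - γ i - β' L2 ∈ (L1), α + γ c - α' L2 ∈ (L1)
  have h5 : w - γ * dl - β' * Q3 A - α' * Q1 A ∈ adj ⊥ (L1 A) := by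
    apply nzd_L1_L2
    have e : (w - γ * dl - β' * Q3 A - α' * Q1 A) * L2 A =
        (w * L2 A - β * Q3 A - α * Q1 A) + (β - γ * vi - β' * L2 A) * Q3 A +
        (α + γ * vc - α' * L2 A) * Q1 A - γ * (vc * vh + vi * vf) * L1 A := by
      simp only [L1, L2, Q1, Q3, dl]; ring
    rw [e]
    refine Ideal.sub_mem _ (Ideal.add_mem _ (Ideal.add_mem _ hα ?_) ?_)
      (Ideal.mul_mem_left _ _ mem_adj_self)
    · exact Ideal.mul_mem_right _ _ hβ'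
    · exact Ideal.mul_mem_right _ _ hα'
  exact mem_adj.2 ⟨γ, mem_adj.2 ⟨β', mem_adj.2 ⟨α', h5⟩⟩⟩

/-- `u Q2 ∈ (L1, Q1, Q3)` implies `u ∈ (L1, Q1, Q3, gc - i^2)`. -/
theorem colon_Q2 (u : D A) (hu : u * Q2 A ∈ adj (adj (adj ⊥ (L1 A)) (Q1 A)) (Q3 A)) :
    u ∈ adj (adj (adj (adj ⊥ (L1 A)) (Q1 A)) (Q3 A)) (dl (A := A)) := by
  have hst : Stable (psi A 7 (fun j => ev 7 j - ev 3 j))
      (adj (adj (adj ⊥ (L1 A)) (Q1 A)) (Q3 A)) := by
    refine Stable.sup (Stable.sup_of_mem ((stable_bot _).sup ?_) ?_) ?_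
    · psi_tac
    · have e : psi A 7 (fun j => ev 7 j - ev 3 j) (Q1 A) - Polynomial.C (Q1 A) =
          (Polynomial.X - Polynomial.C vh) * Polynomial.C (L1 A) := by
        psi_tac
      rw [e]
      exact Ideal.mul_mem_left _ _ (Ideal.mem_map_of_mem _ mem_adj_self)
    · psi_tac
  refine polyLemma (psi A 7 (fun j => ev 7 j - ev 3 j)) _ (psi_eval A 7 _) _ _ hst (-L2 A)
    (vb * L3 A - ve * L1 A) (Q2 A) (by psi_tac) ?_ ?_ u hu
  · intro w hw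
    apply colon_L2
    have := neg_mem hw
    simpa using this
  · intro w hw
    obtain ⟨γ, hγ⟩ := mem_adj.1 hw
    have e : w * (vb * L3 A - ve * L1 A) = (w - γ * dl) * (vb * L3 A - ve * L1 A) +
        γ * vb * (vg * Q3 A - vi * Q1 A + (vg * vf + vi * vh) * L1 A) - γ * dl * ve * L1 A := by
      simp only [L1, L3, Q1, Q3, dl]; ring
    rw [e]
    have hL1 : L1 A ∈ adj (adj (adj ⊥ (L1 A)) (Q1 A)) (Q3 A) :=
      mem_adj_of_mem (mem_adj_of_mem mem_adj_self)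
    have hQ1 : Q1 A ∈ adj (adj (adj ⊥ (L1 A)) (Q1 A)) (Q3 A) := mem_adj_of_mem mem_adj_self
    have hQ3 : Q3 A ∈ adj (adj (adj ⊥ (L1 A)) (Q1 A)) (Q3 A) := mem_adj_self
    refine Ideal.sub_mem _ (Ideal.add_mem _ (Ideal.mul_mem_right _ _ hγ) ?_)
      (Ideal.mul_mem_left _ _ hL1)
    exact Ideal.mul_mem_left _ _ (Ideal.add_mem _ (Ideal.sub_mem _ (Ideal.mul_mem_left _ _ hQ3)
      (Ideal.mul_mem_left _ _ hQ1)) (Ideal.mul_mem_left _ _ hL1))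

/-- `u L1 ∈ (Q1, Q2, Q3)` implies `u ∈ (Q1, Q2, Q3, detM)`. -/
theorem colon_L1 (u : D A) (hu : u * L1 A ∈ adj (adj (adj ⊥ (Q1 A)) (Q2 A)) (Q3 A)) :
    u ∈ adj (adj (adj (adj ⊥ (Q1 A)) (Q2 A)) (Q3 A)) (detM A) := by
  obtain ⟨γ, hγ⟩ := mem_adj.1 hu
  obtain ⟨β, hβ⟩ := mem_adj.1 hγ
  obtain ⟨α, hα⟩ := mem_adj.1 hβ
  have h0 : u * L1 A - γ * Q3 A - β * Q2 A - α * Q1 A = 0 := by simpa using hα
  have h1 : β ∈ adj (adj (adj (adj ⊥ (L1 A)) (Q1 A)) (Q3 A)) (dl (A := A)) := by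
    apply colon_Q2
    have e : β * Q2 A = u * L1 A - γ * Q3 A - α * Q1 A := by linear_combination -h0
    rw [e]
    exact Ideal.sub_mem _ (Ideal.sub_mem _
      (Ideal.mul_mem_left _ _ (mem_adj_of_mem (mem_adj_of_mem mem_adj_self)))
      (Ideal.mul_mem_left _ _ mem_adj_self)) (Ideal.mul_mem_left _ _ (mem_adj_of_mem mem_adj_self))
  obtain ⟨β', hβ'⟩ := mem_adj.1 h1
  obtain ⟨β3, hβ3⟩ := mem_adj.1 hβ'
  obtain ⟨β1, hβ1⟩ := mem_adj.1 hβ3
  obtain ⟨β0, hβ0⟩ := mem_adj.1 hβ1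
  have h2 : β - β' * dl - β3 * Q3 A - β1 * Q1 A - β0 * L1 A = 0 := by simpa using hβ0
  -- the identity `δ · Q = L1 detM`
  have hid : (-vh * vc + vi * vb) * Q1 A + dl * Q2 A + (-vg * vb + vh * vi) * Q3 A =
      L1 A * detM A := by
    simp only [L1, Q1, Q2, Q3, dl, detM]; ring
  -- now `L1 (u - β0 Q2 - β' detM) = α' Q1 + γ' Q3`
  set α' := α + β1 * Q2 A - β' * (-vh * vc + vi * vb) with hα'
  set γ' := γ + β3 * Q2 A - β' * (-vg * vb + vh * vi) with hγ'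
  have h3 : (u - β0 * Q2 A - β' * detM A) * L1 A = α' * Q1 A + γ' * Q3 A := by
    rw [hα', hγ']
    linear_combination h0 + Q2 A * h2 + β' * hid
  have h4 : γ' ∈ adj (adj ⊥ (L1 A)) (Q1 A) := by
    apply nzd_L1Q1_Q3
    have e : γ' * Q3 A = (u - β0 * Q2 A - β' * detM A) * L1 A - α' * Q1 A := by
      linear_combination -h3
    rw [e]
    exact Ideal.sub_mem _ (Ideal.mul_mem_left _ _ (mem_adj_of_mem mem_adj_self))
      (Ideal.mul_mem_left _ _ mem_adj_self)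
  obtain ⟨γ2, hγ2⟩ := mem_adj.1 h4
  obtain ⟨γ1, hγ1⟩ := mem_adj.1 hγ2
  have h5 : γ' - γ2 * Q1 A - γ1 * L1 A = 0 := by simpa using hγ1
  have h6 : α' + γ2 * Q3 A ∈ adj ⊥ (L1 A) := by
    apply nzd_L1_Q1
    refine mem_adj.2 ⟨u - β0 * Q2 A - β' * detM A - γ1 * Q3 A, ?_⟩
    have e : (α' + γ2 * Q3 A) * Q1 A - (u - β0 * Q2 A - β' * detM A - γ1 * Q3 A) * L1 A = 0 := by
      linear_combination -h3 - Q3 A * h5
    rw [e]
    exact Ideal.zero_mem _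
  obtain ⟨α3, hα3⟩ := mem_adj.1 h6
  have h7 : α' + γ2 * Q3 A - α3 * L1 A = 0 := by simpa using hα3
  have h8 : u - β0 * Q2 A - β' * detM A - γ1 * Q3 A - α3 * Q1 A = 0 := by
    have : u - β0 * Q2 A - β' * detM A - γ1 * Q3 A - α3 * Q1 A ∈ (⊥ : Ideal (D A)) := by
      apply nzd_L1
      have e : (u - β0 * Q2 A - β' * detM A - γ1 * Q3 A - α3 * Q1 A) * L1 A = 0 := by
        linear_combination h3 + Q1 A * h7 + Q3 A * h5
      rw [e]
      exact Ideal.zero_mem _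
    simpa using this
  refine mem_adj.2 ⟨β', mem_adj.2 ⟨γ1, mem_adj.2 ⟨β0, mem_adj.2 ⟨α3, ?_⟩⟩⟩⟩
  have e : u - β' * detM A - γ1 * Q3 A - β0 * Q2 A - α3 * Q1 A = 0 := by
    linear_combination h8
  rw [e]
  exact Ideal.zero_mem _

/-! ### The ideals of the prelude -/

theorem idI_eq : idI A = adj (adj (adj ⊥ (Q1 A)) (Q2 A)) (Q3 A) := by
  simp only [idI, adj, bot_sup_eq, Ideal.span_insert, sup_assoc]

theorem idL_eq : idL A = adj (adj (adj ⊥ (L1 A)) (L2 A)) (L3 A) := by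
  simp only [idL, adj, bot_sup_eq, Ideal.span_insert, sup_assoc]

theorem idJ_eq : idJ A = adj (adj (adj (adj ⊥ (Q1 A)) (Q2 A)) (Q3 A)) (detM A) := by
  simp only [idJ, adj, bot_sup_eq, Ideal.span_insert, sup_assoc]

theorem idJ_eq' : idJ A = adj (idI A) (detM A) := by rw [idI_eq, idJ_eq]

theorem Q1_mem_idI : Q1 A ∈ idI A := Ideal.subset_span (by simp)
theorem Q2_mem_idI : Q2 A ∈ idI A := Ideal.subset_span (by simp)
theorem Q3_mem_idI : Q3 A ∈ idI A := Ideal.subset_span (by simp)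
theorem L1_mem_idL : L1 A ∈ idL A := Ideal.subset_span (by simp)
theorem L2_mem_idL : L2 A ∈ idL A := Ideal.subset_span (by simp)
theorem L3_mem_idL : L3 A ∈ idL A := Ideal.subset_span (by simp)
theorem detM_mem_idJ : detM A ∈ idJ A := Ideal.subset_span (by simp)

theorem idI_le_idJ : idI A ≤ idJ A := by
  rw [idJ_eq']
  exact le_sup_left

theorem Q1_eq : Q1 A = vh * L1 A - vg * L2 A + vi * L3 A := by
  simp only [L1, L2, L3, Q1]; ring
theorem Q2_eq : Q2 A = -ve * L1 A - vh * L2 A + vb * L3 A := by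
  simp only [L1, L2, L3, Q2]; ring
theorem Q3_eq : Q3 A = -vf * L1 A - vi * L2 A + vc * L3 A := by
  simp only [L1, L2, L3, Q3]; ring

theorem idI_le_idL : idI A ≤ idL A := by
  have h1 := L1_mem_idL (A := A)
  have h2 := L2_mem_idL (A := A)
  have h3 := L3_mem_idL (A := A)
  rw [idI, Ideal.span_le]
  rintro x (rfl | rfl | rfl)
  · rw [SetLike.mem_coe, Q1_eq]
    exact Ideal.add_mem _ (Ideal.sub_mem _ (Ideal.mul_mem_left _ _ h1) (Ideal.mul_mem_left _ _ h2))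
      (Ideal.mul_mem_left _ _ h3)
  · rw [SetLike.mem_coe, Q2_eq]
    exact Ideal.add_mem _ (Ideal.sub_mem _ (Ideal.mul_mem_left _ _ h1) (Ideal.mul_mem_left _ _ h2))
      (Ideal.mul_mem_left _ _ h3)
  · rw [SetLike.mem_coe, Q3_eq]
    exact Ideal.add_mem _ (Ideal.sub_mem _ (Ideal.mul_mem_left _ _ h1) (Ideal.mul_mem_left _ _ h2))
      (Ideal.mul_mem_left _ _ h3)

/-- Cramer's rule: `L_j detM ∈ I`. -/
theorem L1_detM : L1 A * detM A ∈ idI A := by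
  have e : L1 A * detM A = (-vh * vc + vi * vb) * Q1 A + (vg * vc - vi ^ 2) * Q2 A +
      (-vg * vb + vh * vi) * Q3 A := by
    simp only [L1, Q1, Q2, Q3, detM]; ring
  rw [e]
  exact Ideal.add_mem _ (Ideal.add_mem _ (Ideal.mul_mem_left _ _ Q1_mem_idI)
    (Ideal.mul_mem_left _ _ Q2_mem_idI)) (Ideal.mul_mem_left _ _ Q3_mem_idI)

theorem L2_detM : L2 A * detM A ∈ idI A := by
  have e : L2 A * detM A = (ve * vc - vb * vf) * Q1 A + (vh * vc + vi * vf) * Q2 A +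
      (-(vh * vb) - vi * ve) * Q3 A := by
    simp only [L2, Q1, Q2, Q3, detM]; ring
  rw [e]
  exact Ideal.add_mem _ (Ideal.add_mem _ (Ideal.mul_mem_left _ _ Q1_mem_idI)
    (Ideal.mul_mem_left _ _ Q2_mem_idI)) (Ideal.mul_mem_left _ _ Q3_mem_idI)

theorem L3_detM : L3 A * detM A ∈ idI A := by
  have e : L3 A * detM A = (ve * vi - vh * vf) * Q1 A + (vh * vi + vg * vf) * Q2 A +
      (-vh ^ 2 - vg * ve) * Q3 A := by
    simp only [L3, Q1, Q2, Q3, detM]; ring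
  rw [e]
  exact Ideal.add_mem _ (Ideal.add_mem _ (Ideal.mul_mem_left _ _ Q1_mem_idI)
    (Ideal.mul_mem_left _ _ Q2_mem_idI)) (Ideal.mul_mem_left _ _ Q3_mem_idI)

theorem mul_detM_mem (u : D A) (hu : u ∈ idL A) : u * detM A ∈ idI A := by
  have : idL A ≤ Submodule.comap (LinearMap.mulRight (D A) (detM A)) (idI A) := by
    rw [idL, Ideal.span_le]
    rintro x (rfl | rfl | rfl)
    · exact L1_detM
    · exact L2_detM
    · exact L3_detM
  exact this hu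

theorem mul_mem_idI {x y : D A} (hx : x ∈ idL A) (hy : y ∈ idJ A) : x * y ∈ idI A := by
  rw [idJ_eq'] at hy
  obtain ⟨v, hv⟩ := mem_adj.1 hy
  have e : x * y = x * (y - v * detM A) + v * (x * detM A) := by ring
  rw [e]
  exact Ideal.add_mem _ (Ideal.mul_mem_left _ _ hv) (Ideal.mul_mem_left _ _ (mul_detM_mem _ hx))

theorem nzd_idL_detM : NZD (idL A) (detM A) := by
  rw [idL_eq]
  exact nzd_L_detM

theorem mem_idJ_of_mul_L1 {u : D A} (hu : u * L1 A ∈ idI A) : u ∈ idJ A := by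
  rw [idJ_eq]
  rw [idI_eq] at hu
  exact colon_L1 u hu

theorem idI_eq_inf : idI A = idJ A ⊓ idL A := by
  apply le_antisymm (le_inf idI_le_idJ idI_le_idL)
  rintro x ⟨hJ, hL⟩
  rw [SetLike.mem_coe, idJ_eq'] at hJ
  obtain ⟨v, hv⟩ := mem_adj.1 hJ
  have h1 : v ∈ idL A := by
    apply nzd_idL_detM
    have e : v * detM A = x - (x - v * detM A) := by ring
    rw [e]
    exact Ideal.sub_mem _ hL (idI_le_idL hv)
  have e : x = (x - v * detM A) + v * detM A := by ring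
  rw [e]
  exact Ideal.add_mem _ hv (mul_detM_mem _ h1)

/-- `L1` is a non-zero-divisor modulo `J`. -/
theorem nzd_idJ_L1 : NZD (idJ A) (L1 A) := by
  intro u hu
  apply mem_idJ_of_mul_L1
  rw [idI_eq_inf]
  exact ⟨hu, Ideal.mul_mem_left _ _ L1_mem_idL⟩

theorem colon_idI_idL : (idI A).colon (idL A : Set (D A)) = idJ A := by
  ext u
  rw [Submodule.mem_colon]
  constructor
  · intro h
    exact mem_idJ_of_mul_L1 (h _ L1_mem_idL)
  · intro h p hp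
    rw [smul_eq_mul, mul_comm]
    exact mul_mem_idI hp h

theorem colon_idI_idJ : (idI A).colon (idJ A : Set (D A)) = idL A := by
  ext u
  rw [Submodule.mem_colon]
  constructor
  · intro h
    exact nzd_idL_detM _ (idI_le_idL (h _ detM_mem_idJ))
  · intro h p hp
    exact mul_mem_idI h hp

end main

end K752.Core
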