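import Groth.Agent.Lie3Mod.K752.Prime
import Mathlib.RingTheory.Flat.TorsionFree
import Mathlib.RingTheory.DedekindDomain.PID

/-!
# Flatness over the integers
-/

set_option autoImplicit false

namespace K752.FlatInt

open K752.Poly K752.Core K752.Prime Lie3Mod MvPolynomial

theorem mem_idJ_of_int_mul (n : ℤ) (hn : n ≠ 0) (u : D ℤ) (h : (n : D ℤ) * u ∈ idJ ℤ) :
    u ∈ idJ ℤ := by
  refine ((idJ_isPrime (A := ℤ)).mem_or_mem h).resolve_left ?_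
  intro h1
  have h2 := par_idJ _ h1
  rw [map_intCast] at h2
  have h3 : algebraMap ℤ (KK ℤ) n = 0 := by simpa using h2
  rw [FaithfulSMul.algebraMap_eq_zero_iff] at h3
  exact hn h3

theorem mem_idL_of_int_mul (n : ℤ) (hn : n ≠ 0) (u : D ℤ) (h : (n : D ℤ) * u ∈ idL ℤ) :
    u ∈ idL ℤ := by
  refine ((idL_isPrime (A := ℤ)).mem_or_mem h).resolve_left ?_
  intro h1
  have h2 := ret_idL _ h1
  rw [map_intCast] at h2
  have h3 : (n : D ℤ) = C n := by simp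
  rw [h3, C_eq_zero] at h2
  exact hn h2

theorem mem_idI_of_int_mul (n : ℤ) (hn : n ≠ 0) (u : D ℤ) (h : (n : D ℤ) * u ∈ idI ℤ) :
    u ∈ idI ℤ := by
  rw [idI_eq_inf] at h ⊢
  exact ⟨mem_idJ_of_int_mul n hn u h.1, mem_idL_of_int_mul n hn u h.2⟩

theorem flat_of_mem {I : Ideal (D ℤ)}
    (h : ∀ (n : ℤ) (_ : n ≠ 0) (u : D ℤ), (n : D ℤ) * u ∈ I → u ∈ I) :
    Module.Flat ℤ (D ℤ ⧸ I) := by
  rw [IsDedekindDomain.flat_iff_torsion_eq_bot, Submodule.eq_bot_iff]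
  intro x hx
  obtain ⟨u, rfl⟩ := Ideal.Quotient.mk_surjective x
  rw [Submodule.mem_torsion_iff] at hx
  obtain ⟨⟨n, hn⟩, hnx⟩ := hx
  have hn0 : n ≠ 0 := nonZeroDivisors.ne_zero hn
  rw [Ideal.Quotient.eq_zero_iff_mem]
  apply h n hn0
  rw [← Ideal.Quotient.eq_zero_iff_mem, map_mul, map_intCast]
  rw [← zsmul_eq_mul]
  exact hnx

theorem flat_idJ : Module.Flat ℤ (D ℤ ⧸ idJ ℤ) := flat_of_mem mem_idJ_of_int_mul

theorem flat_idI : Module.Flat ℤ (D ℤ ⧸ idI ℤ) := flat_of_mem mem_idI_of_int_mul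

end K752.FlatInt
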