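import Mathlib.RingTheory.Flat.Tensor
import Mathlib.LinearAlgebra.TensorProduct.Quotient

/-!
# A flatness criterion by finite resolutions exact after all quotients
-/

set_option autoImplicit false

namespace K752.FlatRes

open TensorProduct

universe u

/-- A quotient `P → M` of a flat module `P` by a submodule `N` with `N ∩ I P ⊆ I N` is flat. -/
theorem flat_of_pure {R : Type u} {P M : Type*} [CommRing R] [AddCommGroup P]
    [AddCommGroup M] [Module R P] [Module R M]
    (p : P →ₗ[R] M) (hp : Function.Surjective p) [Module.Flat R P]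
    (h : ∀ (I : Ideal R) (w : P), w ∈ I • (⊤ : Submodule R P) → p w = 0 →
      w ∈ I • LinearMap.ker p) : Module.Flat R M := by
  have hnat : ∀ (I : Ideal R) (y : I ⊗[R] P), p (TensorProduct.lid R P (I.subtype.rTensor P y)) =
      TensorProduct.lid R M (I.subtype.rTensor M (p.lTensor I y)) := by
    intro I y
    induction y using TensorProduct.induction_on with
    | zero => simp
    | tmul a b => simp
    | add a b ha hb => simp only [map_add, ha, hb]
  have hmem : ∀ (I : Ideal R) (y : I ⊗[R] P),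
      TensorProduct.lid R P (I.subtype.rTensor P y) ∈ I • (⊤ : Submodule R P) := by
    intro I y
    induction y using TensorProduct.induction_on with
    | zero => simp
    | tmul a b =>
      simp only [LinearMap.rTensor_tmul, Submodule.subtype_apply, TensorProduct.lid_tmul]
      exact Submodule.smul_mem_smul a.2 Submodule.mem_top
    | add a b ha hb =>
      simp only [map_add]
      exact add_mem ha hb
  rw [Module.Flat.iff_rTensor_injective']
  intro I
  rw [injective_iff_map_eq_zero]
  intro x hx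
  obtain ⟨y, rfl⟩ := LinearMap.lTensor_surjective I hp x
  set w : P := TensorProduct.lid R P (I.subtype.rTensor P y) with hw
  have h1 : p w = 0 := by
    rw [hw, hnat, hx, map_zero]
  have h2 : w ∈ I • LinearMap.ker p := h I w (hmem I y) h1
  have h3 : ∃ y' : I ⊗[R] P, p.lTensor I y' = 0 ∧
      TensorProduct.lid R P (I.subtype.rTensor P y') = w := by
    clear_value w
    clear hw h1
    induction h2 using Submodule.smul_induction_on' with
    | smul r hr n hn =>
      refine ⟨(⟨r, hr⟩ : I) ⊗ₜ n, ?_, ?_⟩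
      · rw [LinearMap.lTensor_tmul, LinearMap.mem_ker.1 hn, tmul_zero]
      · simp
    | add a ha b hb iha ihb =>
      obtain ⟨y1, h1, h1'⟩ := iha
      obtain ⟨y2, h2, h2'⟩ := ihb
      exact ⟨y1 + y2, by rw [map_add, h1, h2, add_zero], by simp only [map_add, h1', h2']⟩
  obtain ⟨y', h4, h5⟩ := h3
  have h6 : y' = y := by
    have hinj := Module.Flat.iff_rTensor_injective'.1 (inferInstance : Module.Flat R P) I
    apply hinj
    apply (TensorProduct.lid R P).injective
    rw [h5]
  rw [← h6, h4]

/-- In `P3 → P2 → P1 → M → 0` with `P1` flat, exact at `P1` and `M`, such that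
`(R/I) ⊗ P3 → (R/I) ⊗ P2 → (R/I) ⊗ P1` is exact for all ideals `I`, the module `M` is flat. -/
theorem flat_of_exact {R : Type u} {P1 P2 P3 M : Type*} [CommRing R] [AddCommGroup P1]
    [AddCommGroup P2] [AddCommGroup P3] [AddCommGroup M] [Module R P1] [Module R P2] [Module R P3]
    [Module R M] [Module.Flat R P1]
    (d1 : P1 →ₗ[R] M) (d2 : P2 →ₗ[R] P1) (d3 : P3 →ₗ[R] P2) (h1 : Function.Surjective d1)
    (h2 : ∀ x, d1 x = 0 → ∃ y, d2 y = x) (h21 : ∀ y, d1 (d2 y) = 0) (h32 : ∀ z, d2 (d3 z) = 0)
    (hbc : ∀ (I : Ideal R) (x : (R ⧸ I) ⊗[R] P2), d2.lTensor (R ⧸ I) x = 0 →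
      ∃ y, d3.lTensor (R ⧸ I) y = x) : Module.Flat R M := by
  refine flat_of_pure d1 h1 ?_
  intro I w hw hpw
  obtain ⟨y, rfl⟩ := h2 w hpw
  have h3 : d2.lTensor (R ⧸ I) ((1 : R ⧸ I) ⊗ₜ y) = 0 := by
    rw [LinearMap.lTensor_tmul]
    apply (quotTensorEquivQuotSMul P1 I).injective
    rw [quotTensorEquivQuotSMul_mk_one_tmul, map_zero, Submodule.Quotient.mk_eq_zero]
    exact hw
  obtain ⟨z, hz⟩ := hbc I _ h3
  obtain ⟨z', rfl⟩ := (quotTensorEquivQuotSMul P3 I).symm.surjective z
  obtain ⟨z'', rfl⟩ := Submodule.Quotient.mk_surjective _ z'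
  rw [quotTensorEquivQuotSMul_symm_mk, LinearMap.lTensor_tmul] at hz
  have h4 : y - d3 z'' ∈ I • (⊤ : Submodule R P2) := by
    rw [← Submodule.Quotient.mk_eq_zero, ← quotTensorEquivQuotSMul_mk_one_tmul, tmul_sub, ← hz,
      sub_self, map_zero]
  have h5 : d2 y = d2 (y - d3 z'') := by rw [map_sub, h32, sub_zero]
  rw [h5]
  have h6 : I • (⊤ : Submodule R P2) ≤ (I • LinearMap.ker d1).comap d2 := by
    rw [Submodule.smul_le]
    intro r hr n _
    rw [Submodule.mem_comap, map_smul]
    exact Submodule.smul_mem_smul hr (h21 n)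
  exact h6 h4

end K752.FlatRes
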