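import Groth.Prelude.Def_W4c1bouilletffgsL3
import Mathlib.RingTheory.Polynomial.Basic
import Mathlib.Algebra.Polynomial.Eval.Coeff
import Mathlib.Tactic.LinearCombination
import Mathlib.Tactic.Ring
import Mathlib.Tactic.FinCases

/-!
# Non-zero-divisors modulo an ideal in a polynomial ring

`NZD I y` : `y` is a non-zero-divisor modulo `I`.  The key lemma `polyLemma` is an
"affine-linear in a new variable" criterion; `swap` exchanges two members of a regular sequence.
-/

set_option autoImplicit false

namespace K752.Poly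

open Polynomial

section general

variable {R : Type*} [CommRing R]

/-- `y` is a non-zero-divisor modulo the ideal `I`. -/
def NZD (I : Ideal R) (y : R) : Prop := ∀ u : R, u * y ∈ I → u ∈ I

theorem NZD.neg {I : Ideal R} {y : R} (h : NZD I y) : NZD I (-y) := by
  intro u hu
  apply h u
  have := I.neg_mem hu
  simpa using this

theorem NZD.mul {I : Ideal R} {y z : R} (h : NZD I y) (h' : NZD I z) : NZD I (y * z) := by
  intro u hu
  apply h u
  apply h' (u * y)
  rwa [mul_assoc]

theorem NZD.of_mul_left {I : Ideal R} {y z : R} (h : NZD I (y * z)) : NZD I y := by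
  intro u hu
  apply h u
  rw [← mul_assoc]
  exact I.mul_mem_right _ hu

theorem nzd_one (I : Ideal R) : NZD I 1 := by
  intro u hu
  simpa using hu

theorem mem_sup_span {I : Ideal R} {x u : R} :
    u ∈ I ⊔ Ideal.span {x} ↔ ∃ v : R, u - v * x ∈ I := by
  constructor
  · intro h
    obtain ⟨a, ha, b, hb, rfl⟩ := Submodule.mem_sup.1 h
    obtain ⟨c, rfl⟩ := Ideal.mem_span_singleton'.1 hb
    exact ⟨c, by simpa using ha⟩
  · rintro ⟨v, hv⟩
    have : u = (u - v * x) + v * x := by ring
    rw [this]
    exact Submodule.add_mem_sup hv (Ideal.mul_mem_left _ _ (Ideal.mem_span_singleton_self x))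

/-- Exchange of two members of a regular sequence (modulo `I`), one direction. -/
theorem NZD.swap {I : Ideal R} {x y : R} (h1 : NZD I x) (h2 : NZD (I ⊔ Ideal.span {x}) y) :
    NZD (I ⊔ Ideal.span {y}) x := by
  intro u hu
  obtain ⟨v, hv⟩ := mem_sup_span.1 hu
  have h3 : v * y ∈ I ⊔ Ideal.span {x} := by
    refine mem_sup_span.2 ⟨u, ?_⟩
    have := I.neg_mem hv
    have e : v * y - u * x = -(u * x - v * y) := by ring
    rwa [e]
  obtain ⟨w, hw⟩ := mem_sup_span.1 (h2 v h3)
  refine mem_sup_span.2 ⟨w, ?_⟩
  apply h1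
  have e : (u - w * y) * x = (u * x - v * y) + (v - w * x) * y := by ring
  rw [e]
  exact I.add_mem hv (I.mul_mem_right _ hw)

theorem NZD.congr {I : Ideal R} {x y : R} (h : NZD I x) (hxy : x - y ∈ I) : NZD I y := by
  intro u hu
  apply h u
  have e : u * x = u * y + u * (x - y) := by ring
  rw [e]
  exact I.add_mem hu (I.mul_mem_left _ hxy)

/-- The key lemma: let `ψ : R → R[X]` be a section of the evaluation at `x`, and `I` an ideal
stable under `ψ`; let `y` be such that `ψ y = s X + r`. If `w s ∈ I` implies `w ∈ J` and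
`J r ⊆ I`, then `u y ∈ I` implies `u ∈ J`. -/
theorem polyLemma (ψ : R →+* R[X]) (x : R) (hψ : ∀ u, (ψ u).eval x = u) (I J : Ideal R)
    (hI : I ≤ (I.map (C : R →+* R[X])).comap ψ) (s r y : R) (hy : ψ y = C s * X + C r)
    (h1 : ∀ w, w * s ∈ I → w ∈ J) (h2 : ∀ w ∈ J, w * r ∈ I) (u : R) (hu : u * y ∈ I) : u ∈ J := by
  have key : ∀ n, (ψ u).coeff n ∈ J := by
    have hc : ∀ n, (ψ u * (C s * X + C r)).coeff n ∈ I := by
      have h3 := hI hu
      rw [Ideal.mem_comap, map_mul, hy, Ideal.mem_map_C_iff] at h3
      exact h3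
    have hstep : ∀ n, (ψ u).coeff (n + 1) ∈ J → (ψ u).coeff n ∈ J := by
      intro n hn
      apply h1
      have h4 := hc (n + 1)
      have e : (ψ u * (C s * X + C r)).coeff (n + 1) =
          (ψ u).coeff n * s + (ψ u).coeff (n + 1) * r := by
        rw [mul_add, ← mul_assoc, coeff_add, coeff_mul_X, coeff_mul_C, coeff_mul_C]
      rw [e] at h4
      have h5 := h2 _ hn
      have := I.sub_mem h4 h5
      simpa using this
    have hbig : ∀ m n, (ψ u).natDegree < n + m → (ψ u).coeff n ∈ J := by
      intro m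
      induction m with
      | zero =>
        intro n hn
        rw [coeff_eq_zero_of_natDegree_lt (by simpa using hn)]
        exact J.zero_mem
      | succ m ih =>
        intro n hn
        exact hstep n (ih (n + 1) (by omega))
    intro n
    exact hbig ((ψ u).natDegree + 1) n (by omega)
  rw [← hψ u, eval_eq_sum_range]
  exact J.sum_mem fun i _ => J.mul_mem_right _ (key i)

theorem nzd_of_poly (ψ : R →+* R[X]) (x : R) (hψ : ∀ u, (ψ u).eval x = u) (I : Ideal R)
    (hI : I ≤ (I.map (C : R →+* R[X])).comap ψ) (s r y : R) (hy : ψ y = C s * X + C r)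
    (h1 : NZD I s) : NZD I y := fun u hu =>
  polyLemma ψ x hψ I I hI s r y hy h1 (fun _ hw => I.mul_mem_right _ hw) u hu

end general

section mv

open MvPolynomial Lie3Mod

variable (A : Type*) [CommRing A]

/-- The substitution `X j ↦ X j + (c j) (T - X k)` from `D A` to `(D A)[T]`. -/
noncomputable def psi (k : Fin 9) (c : Fin 9 → ℤ) : D A →+* (D A)[X] :=
  MvPolynomial.eval₂Hom (Polynomial.C.comp MvPolynomial.C)
    (fun j => Polynomial.C (MvPolynomial.X j) + (c j : (D A)[X]) *
      (Polynomial.X - Polynomial.C (MvPolynomial.X k)))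

@[simp] theorem psi_X (k : Fin 9) (c : Fin 9 → ℤ) (j : Fin 9) :
    psi A k c (MvPolynomial.X j) = Polynomial.C (MvPolynomial.X j) + (c j : (D A)[X]) *
      (Polynomial.X - Polynomial.C (MvPolynomial.X k)) := by
  simp [psi]

theorem psi_eval (k : Fin 9) (c : Fin 9 → ℤ) (u : D A) :
    (psi A k c u).eval (MvPolynomial.X k) = u := by
  have h : (Polynomial.evalRingHom (MvPolynomial.X k : D A)).comp (psi A k c) =
      RingHom.id (D A) := by
    apply MvPolynomial.ringHom_ext
    · intro a
      simp [psi]
    · intro j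
      simp
  exact DFunLike.congr_fun h u

end mv

end K752.Poly
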