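import Groth.Agent.Lie3Mod.K752.Core
import Mathlib.RingTheory.Ideal.MinimalPrime.Basic
import Mathlib.RingTheory.Localization.FractionRing
import Mathlib.RingTheory.MvPolynomial.Basic
import Mathlib.Tactic.FieldSimp

/-!
# The two components: `J` and `L` are prime over a domain
-/

set_option autoImplicit false

namespace K752.Prime

open K752.Poly K752.Core Lie3Mod MvPolynomial

universe u

/-! ### The linear component -/

section linear

variable (A : Type u) [CommRing A]

/-- The retraction `a ↦ i, b ↦ -f, d ↦ -h` with kernel `L`. -/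
noncomputable def ret : D A →ₐ[A] D A :=
  aeval ![X 8, -X 5, X 2, -X 7, X 4, X 5, X 6, X 7, X 8]

variable {A}

theorem ret_idL (u : D A) (hu : u ∈ idL A) : ret A u = 0 := by
  have : idL A ≤ RingHom.ker (ret A) := by
    rw [idL, Ideal.span_le]
    rintro x (rfl | rfl | rfl) <;>
      simp [L1, L2, L3, ret, RingHom.mem_ker]
  exact this hu

theorem sub_ret_mem (u : D A) : u - ret A u ∈ idL A := by
  induction u using MvPolynomial.induction_on with
  | C a => simp [ret]
  | add p q hp hq =>
    have e : p + q - ret A (p + q) = (p - ret A p) + (q - ret A q) := by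
      rw [map_add]; ring
    rw [e]
    exact Ideal.add_mem _ hp hq
  | mul_X p n hp =>
    have hn : X n - ret A (X n) ∈ idL A := by
      have h1 := L1_mem_idL (A := A)
      have h2 := L2_mem_idL (A := A)
      have h3 := L3_mem_idL (A := A)
      simp only [L1, L2, L3] at h1 h2 h3
      fin_cases n <;> simp [ret, h1, h2, h3]
    have e : p * X n - ret A (p * X n) = (p - ret A p) * X n + ret A p * (X n - ret A (X n)) := by
      rw [map_mul]; ring
    rw [e]
    exact Ideal.add_mem _ (Ideal.mul_mem_right _ _ hp) (Ideal.mul_mem_left _ _ hn)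

theorem idL_eq_ker : idL A = RingHom.ker (ret A) := by
  ext u
  constructor
  · intro h
    exact ret_idL u h
  · intro h
    have := sub_ret_mem u
    rwa [RingHom.mem_ker.1 h, sub_zero] at this

theorem idL_isPrime [IsDomain A] : (idL A).IsPrime := by
  rw [idL_eq_ker]
  exact RingHom.ker_isPrime _

theorem detM_notMem_idL [Nontrivial A] : detM A ∉ idL A := by
  intro h
  have h1 : (1 : D A) ∈ idL A := nzd_idL_detM 1 (by simpa using h)
  have h2 := ret_idL 1 h1
  rw [map_one] at h2
  exact one_ne_zero h2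

theorem idL_mem_minimalPrimes [IsDomain A] : idL A ∈ (idI A).minimalPrimes := by
  refine ⟨⟨idL_isPrime, idI_le_idL⟩, ?_⟩
  rintro q ⟨hq, hIq⟩ hqL
  have hd : detM A ∉ q := fun h => detM_notMem_idL (hqL h)
  rw [idL, Ideal.span_le]
  rintro x (rfl | rfl | rfl)
  · exact (hq.mem_or_mem (hIq L1_detM)).resolve_right hd
  · exact (hq.mem_or_mem (hIq L2_detM)).resolve_right hd
  · exact (hq.mem_or_mem (hIq L3_detM)).resolve_right hd

end linear

/-! ### The main component -/

section main

variable (A : Type u) [CommRing A]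

/-- The coordinate ring of the chart: six variables `L1, L2, L3, g, i, c`. -/
abbrev P6 : Type u := MvPolynomial (Fin 6) A

/-- The inclusion of the chart coordinates. -/
noncomputable def incl : P6 A →ₐ[A] D A := aeval ![L1 A, L2 A, L3 A, X 6, X 8, X 2]

variable [IsDomain A]

/-- The fraction field of the chart ring. -/
abbrev KK : Type u := FractionRing (P6 A)

/-- The chart coordinates in the fraction field. -/
noncomputable def yy (n : Fin 6) : KK A := algebraMap (P6 A) (KK A) (X n)

theorem yy_ne_zero (n : Fin 6) : yy A n ≠ 0 := by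
  rw [yy, Ne, FaithfulSMul.algebraMap_eq_zero_iff]
  exact X_ne_zero n

noncomputable def hh : KK A := (yy A 3 * yy A 1 - yy A 4 * yy A 2) / yy A 0
noncomputable def ff : KK A := (yy A 5 * yy A 2 - yy A 4 * yy A 1) / yy A 0
noncomputable def ee : KK A := ((yy A 1 - ff A) * yy A 2 - hh A * yy A 1) / yy A 0

/-- The rational parametrisation of the main component. -/
noncomputable def par : D A →ₐ[A] KK A :=
  aeval ![yy A 0 + yy A 4, yy A 1 - ff A, yy A 5, yy A 2 - hh A, ee A, ff A, yy A 3, hh A, yy A 4]

variable {A}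

@[simp] theorem par_va : par A (X 0) = yy A 0 + yy A 4 := by simp [par]
@[simp] theorem par_vb : par A (X 1) = yy A 1 - ff A := by simp [par]
@[simp] theorem par_vc : par A (X 2) = yy A 5 := by simp [par]
@[simp] theorem par_vd : par A (X 3) = yy A 2 - hh A := by simp [par]
@[simp] theorem par_ve : par A (X 4) = ee A := by simp [par]
@[simp] theorem par_vf : par A (X 5) = ff A := by simp [par]
@[simp] theorem par_vg : par A (X 6) = yy A 3 := by simp [par]
@[simp] theorem par_vh : par A (X 7) = hh A := by simp [par]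
@[simp] theorem par_vi : par A (X 8) = yy A 4 := by simp [par]

theorem par_L1 : par A (L1 A) = yy A 0 := by simp [L1]
theorem par_L2 : par A (L2 A) = yy A 1 := by simp [L2]
theorem par_L3 : par A (L3 A) = yy A 2 := by simp [L3]

theorem hh_mul : hh A * yy A 0 = yy A 3 * yy A 1 - yy A 4 * yy A 2 := by
  rw [hh, div_mul_cancel₀ _ (yy_ne_zero A 0)]
theorem ff_mul : ff A * yy A 0 = yy A 5 * yy A 2 - yy A 4 * yy A 1 := by
  rw [ff, div_mul_cancel₀ _ (yy_ne_zero A 0)]
theorem ee_mul : ee A * yy A 0 = (yy A 1 - ff A) * yy A 2 - hh A * yy A 1 := by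
  rw [ee, div_mul_cancel₀ _ (yy_ne_zero A 0)]

theorem par_Q1 : par A (Q1 A) = 0 := by
  rw [Q1_eq]
  simp only [map_add, map_sub, map_mul, par_L1, par_L2, par_L3, par_vh, par_vg, par_vi]
  linear_combination hh_mul (A := A)

theorem par_Q2 : par A (Q2 A) = 0 := by
  rw [Q2_eq]
  simp only [map_add, map_sub, map_mul, map_neg, par_L1, par_L2, par_L3, par_ve, par_vh, par_vb]
  linear_combination -ee_mul (A := A)

theorem par_Q3 : par A (Q3 A) = 0 := by
  rw [Q3_eq]
  simp only [map_add, map_sub, map_mul, map_neg, par_L1, par_L2, par_L3, par_vf, par_vi, par_vc]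
  linear_combination -ff_mul (A := A)

theorem par_idI (u : D A) (hu : u ∈ idI A) : par A u = 0 := by
  have : idI A ≤ RingHom.ker (par A) := by
    rw [idI, Ideal.span_le]
    rintro x (rfl | rfl | rfl)
    · exact par_Q1
    · exact par_Q2
    · exact par_Q3
  exact this hu

theorem par_detM : par A (detM A) = 0 := by
  have h := par_idI _ (L1_detM (A := A))
  rw [map_mul, par_L1] at h
  exact (mul_eq_zero.1 h).resolve_left (yy_ne_zero A 0)

theorem par_idJ (u : D A) (hu : u ∈ idJ A) : par A u = 0 := by
  have : idJ A ≤ RingHom.ker (par A) := by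
    rw [idJ, Ideal.span_le]
    rintro x (rfl | rfl | rfl | rfl)
    · exact par_Q1
    · exact par_Q2
    · exact par_Q3
    · exact par_detM
  exact this hu

theorem par_incl (p : P6 A) : par A (incl A p) = algebraMap (P6 A) (KK A) p := by
  have h : (par A).comp (incl A) = IsScalarTower.toAlgHom A (P6 A) (KK A) := by
    apply MvPolynomial.algHom_ext
    intro n
    have : algebraMap (P6 A) (KK A) (X n) = yy A n := rfl
    simp only [AlgHom.comp_apply, IsScalarTower.coe_toAlgHom', this]
    fin_cases n <;> simp [incl, par_L1, par_L2, par_L3]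
  exact DFunLike.congr_fun h p

end main

section chart

variable {A : Type u} [CommRing A]

/-- `u` is, up to a power of `L1` and modulo `I`, in the image of the chart ring. -/
def Good (u : D A) : Prop := ∃ (n : ℕ) (p : P6 A), L1 A ^ n * u - incl A p ∈ idI A

theorem good_incl (p : P6 A) : Good (incl A p) := ⟨0, p, by simp⟩

theorem Good.mul {u v : D A} (hu : Good u) (hv : Good v) : Good (u * v) := by
  obtain ⟨n, p, hp⟩ := hu
  obtain ⟨m, q, hq⟩ := hv
  refine ⟨n + m, p * q, ?_⟩
  have e : L1 A ^ (n + m) * (u * v) - incl A (p * q) =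
      (L1 A ^ n * u - incl A p) * (L1 A ^ m * v) + incl A p * (L1 A ^ m * v - incl A q) := by
    rw [map_mul]; ring
  rw [e]
  exact Ideal.add_mem _ (Ideal.mul_mem_right _ _ hp) (Ideal.mul_mem_left _ _ hq)

theorem incl_L1 : incl A (X 0) = L1 A := by simp [incl]
theorem incl_L2 : incl A (X 1) = L2 A := by simp [incl]
theorem incl_L3 : incl A (X 2) = L3 A := by simp [incl]
theorem incl_g : incl A (X 3) = X 6 := by simp [incl]
theorem incl_i : incl A (X 4) = X 8 := by simp [incl]
theorem incl_c : incl A (X 5) = X 2 := by simp [incl]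

theorem Good.add {u v : D A} (hu : Good u) (hv : Good v) : Good (u + v) := by
  obtain ⟨n, p, hp⟩ := hu
  obtain ⟨m, q, hq⟩ := hv
  refine ⟨n + m, X 0 ^ m * p + X 0 ^ n * q, ?_⟩
  have e : L1 A ^ (n + m) * (u + v) - incl A (X 0 ^ m * p + X 0 ^ n * q) =
      L1 A ^ m * (L1 A ^ n * u - incl A p) + L1 A ^ n * (L1 A ^ m * v - incl A q) := by
    rw [map_add, map_mul, map_mul, map_pow, map_pow, incl_L1]; ring
  rw [e]
  exact Ideal.add_mem _ (Ideal.mul_mem_left _ _ hp) (Ideal.mul_mem_left _ _ hq)

theorem Good.of_L1_mul {u : D A} (hu : Good (L1 A * u)) : Good u := by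
  obtain ⟨n, p, hp⟩ := hu
  refine ⟨n + 1, p, ?_⟩
  rwa [pow_succ, mul_assoc]

theorem Good.of_sub_mem {u v : D A} (hv : Good v) (h : u - v ∈ idI A) : Good u := by
  obtain ⟨n, p, hp⟩ := hv
  refine ⟨n, p, ?_⟩
  have e : L1 A ^ n * u - incl A p = (L1 A ^ n * v - incl A p) + L1 A ^ n * (u - v) := by ring
  rw [e]
  exact Ideal.add_mem _ hp (Ideal.mul_mem_left _ _ h)

theorem Good.neg {u : D A} (hu : Good u) : Good (-u) := by
  have : -u = incl A (-1) * u := by simp
  rw [this]
  exact (good_incl _).mul hu

theorem good_L1 : Good (L1 A) := incl_L1 (A := A) ▸ good_incl _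
theorem good_L2 : Good (L2 A) := incl_L2 (A := A) ▸ good_incl _
theorem good_L3 : Good (L3 A) := incl_L3 (A := A) ▸ good_incl _
theorem good_g : Good (X 6 : D A) := incl_g (A := A) ▸ good_incl _
theorem good_i : Good (X 8 : D A) := incl_i (A := A) ▸ good_incl _
theorem good_c : Good (X 2 : D A) := incl_c (A := A) ▸ good_incl _

theorem good_a : Good (X 0 : D A) := by
  have e : (X 0 : D A) = L1 A + X 8 := by simp [L1]
  rw [e]
  exact good_L1.add good_i

theorem good_h : Good (X 7 : D A) := by
  apply Good.of_L1_mul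
  refine Good.of_sub_mem ((good_g.mul good_L2).add (good_i.mul good_L3).neg) ?_
  have e : L1 A * X 7 - (X 6 * L2 A + -(X 8 * L3 A)) = Q1 A := by rw [Q1_eq]; ring
  rw [e]
  exact Q1_mem_idI

theorem good_f : Good (X 5 : D A) := by
  apply Good.of_L1_mul
  refine Good.of_sub_mem ((good_c.mul good_L3).add (good_i.mul good_L2).neg) ?_
  have e : L1 A * X 5 - (X 2 * L3 A + -(X 8 * L2 A)) = -Q3 A := by rw [Q3_eq]; ring
  rw [e]
  exact neg_mem Q3_mem_idI

theorem good_b : Good (X 1 : D A) := by
  have e : (X 1 : D A) = L2 A + -(X 5) := by simp [L2]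
  rw [e]
  exact good_L2.add good_f.neg

theorem good_d : Good (X 3 : D A) := by
  have e : (X 3 : D A) = L3 A + -(X 7) := by simp [L3]
  rw [e]
  exact good_L3.add good_h.neg

theorem good_e : Good (X 4 : D A) := by
  apply Good.of_L1_mul
  refine Good.of_sub_mem ((good_b.mul good_L3).add (good_h.mul good_L2).neg) ?_
  have e : L1 A * X 4 - (X 1 * L3 A + -(X 7 * L2 A)) = -Q2 A := by rw [Q2_eq]; ring
  rw [e]
  exact neg_mem Q2_mem_idI

theorem good (u : D A) : Good u := by
  induction u using MvPolynomial.induction_on with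
  | C a =>
    have : (C a : D A) = incl A (C a) := by
      simp [incl]
    rw [this]
    exact good_incl _
  | add p q hp hq => exact hp.add hq
  | mul_X p n hp =>
    refine hp.mul ?_
    fin_cases n
    · exact good_a
    · exact good_b
    · exact good_c
    · exact good_d
    · exact good_e
    · exact good_f
    · exact good_g
    · exact good_h
    · exact good_i

theorem mem_idJ_of_pow_mul {u : D A} (n : ℕ) (h : L1 A ^ n * u ∈ idJ A) : u ∈ idJ A := by
  induction n with
  | zero => simpa using h
  | succ n ih =>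
    apply ih
    apply nzd_idJ_L1
    have e : L1 A ^ n * u * L1 A = L1 A ^ (n + 1) * u := by ring
    rwa [e]

end chart

section final

variable {A : Type u} [CommRing A] [IsDomain A]

theorem idJ_eq_ker : idJ A = RingHom.ker (par A) := by
  ext u
  constructor
  · intro h
    exact par_idJ u h
  · intro h
    obtain ⟨n, p, hp⟩ := good u
    have h1 : par A (L1 A ^ n * u - incl A p) = 0 := par_idI _ hp
    rw [map_sub, map_mul, RingHom.mem_ker.1 h, mul_zero, zero_sub, par_incl, neg_eq_zero,
      FaithfulSMul.algebraMap_eq_zero_iff] at h1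
    rw [h1, map_zero, sub_zero] at hp
    exact mem_idJ_of_pow_mul n (idI_le_idJ hp)

theorem idJ_isPrime : (idJ A).IsPrime := by
  rw [idJ_eq_ker]
  exact RingHom.ker_isPrime _

theorem L1_notMem_idJ : L1 A ∉ idJ A := by
  intro h
  have := par_idJ _ h
  rw [par_L1] at this
  exact yy_ne_zero A 0 this

theorem idJ_mem_minimalPrimes : idJ A ∈ (idI A).minimalPrimes := by
  refine ⟨⟨idJ_isPrime, idI_le_idJ⟩, ?_⟩
  rintro q ⟨hq, hIq⟩ hqJ
  have hd : L1 A ∉ q := fun h => L1_notMem_idJ (hqJ h)
  have h1 : detM A ∈ q := (hq.mem_or_mem (hIq L1_detM)).resolve_left hd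
  rw [idJ_eq']
  exact sup_le hIq ((Ideal.span_singleton_le_iff_mem _).2 h1)

theorem idI_isRadical : (idI A).IsRadical := by
  rw [idI_eq_inf]
  exact idJ_isPrime.isRadical.inf idL_isPrime.isRadical

end final

end K752.Prime
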