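import Groth.Agent.Lie3Mod.K752.Prime
import Groth.Agent.Ega4B.DimFT
import Mathlib.RingTheory.RegularLocalRing.Defs
import Mathlib.RingTheory.Localization.AtPrime.Basic

/-!
# A smooth point on the main component
-/

set_option autoImplicit false

namespace K752.SmoothPt

open K752.Poly K752.Core K752.Prime Lie3Mod MvPolynomial

universe u

variable (k : Type u) [Field k]

/-- The coordinate ring of the main component. -/
abbrev BJ : Type u := D k ⧸ idJ k

instance isDomain_BJ : IsDomain (BJ k) := by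
  have := idJ_isPrime (A := k)
  exact Ideal.Quotient.isDomain _

/-- The chart inclusion into the coordinate ring of the main component. -/
noncomputable def chart : P6 k →ₐ[k] BJ k := (Ideal.Quotient.mkₐ k (idJ k)).comp (incl k)

theorem chart_injective : Function.Injective (chart k) := by
  rw [injective_iff_map_eq_zero]
  intro p hp
  have h1 : incl k p ∈ idJ k := by
    rw [chart, AlgHom.comp_apply, Ideal.Quotient.mkₐ_eq_mk, Ideal.Quotient.eq_zero_iff_mem] at hp
    exact hp
  have h2 := par_idJ _ h1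
  rw [par_incl, FaithfulSMul.algebraMap_eq_zero_iff] at h2
  exact h2

theorem trdeg_BJ : Algebra.trdeg k (BJ k) = 6 := by
  let _ : Algebra (P6 k) (BJ k) := (chart k).toRingHom.toAlgebra
  have _ : IsScalarTower k (P6 k) (BJ k) := IsScalarTower.of_algebraMap_eq' (by
    ext x
    exact ((chart k).commutes x).symm)
  have _ : FaithfulSMul (P6 k) (BJ k) :=
    (faithfulSMul_iff_algebraMap_injective _ _).2 (chart_injective k)
  have _ : Algebra.IsAlgebraic (P6 k) (BJ k) := by
    refine ⟨fun x => ?_⟩
    obtain ⟨u, rfl⟩ := Ideal.Quotient.mk_surjective x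
    obtain ⟨n, p, hp⟩ := good u
    refine ⟨Polynomial.C (X 0 ^ n) * Polynomial.X - Polynomial.C p, ?_, ?_⟩
    · intro h
      have h1 := congrArg (fun q => Polynomial.coeff q 1) h
      simp only [Polynomial.coeff_sub, Polynomial.coeff_C_mul, Polynomial.coeff_X_one, mul_one,
        Polynomial.coeff_zero] at h1
      rw [Polynomial.coeff_C_of_ne_zero one_ne_zero, sub_zero] at h1
      exact pow_ne_zero n (X_ne_zero 0) h1
    · have h1 : Ideal.Quotient.mk (idJ k) (L1 k ^ n * u - incl k p) = 0 :=
        Ideal.Quotient.eq_zero_iff_mem.2 (idI_le_idJ hp)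
      have h2 : ∀ q : P6 k, algebraMap (P6 k) (BJ k) q = Ideal.Quotient.mk (idJ k) (incl k q) :=
        fun q => rfl
      rw [map_sub, map_mul, Polynomial.aeval_C, Polynomial.aeval_C, Polynomial.aeval_X, h2, h2,
        map_pow, incl_L1, ← map_mul, ← map_sub]
      exact h1
  have h := trdeg_add_eq k (P6 k) (A := BJ k)
  rw [trdeg_eq_zero (R := P6 k) (A := BJ k), add_zero, MvPolynomial.trdeg_of_isDomain] at h
  rw [← h]
  simp

theorem krullDim_atPrime (m : Ideal (BJ k)) [m.IsMaximal] :
    ringKrullDim (Localization.AtPrime m) = 6 := by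
  obtain ⟨n, h1, h2⟩ := Groth.Agent.Ega4B.DimFT.exists_trdeg_eq_and_height_eq k (BJ k)
  have hn : n = 6 := by
    rw [trdeg_BJ] at h1
    exact_mod_cast h1.symm
  have h3 : ringKrullDim (Localization.AtPrime m) = m.height :=
    IsLocalization.AtPrime.ringKrullDim_eq_height m (Localization.AtPrime m)
  rw [h3, h2 m, hn]
  rfl

/-- The coordinates of the point. -/
def pt (t : k) : Fin 9 → k := ![0, 1, 0, 0, 0, t, 0, 0, 0]

/-- The ideal of the point in the polynomial ring. -/
noncomputable def mt (t : k) : Ideal (D k) :=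
  Ideal.span ({X 0, X 1 - 1, X 2, X 3, X 4, X 5 - C t, X 6, X 7, X 8} : Set (D k))

theorem mt_eq_ker (t : k) : mt k t = RingHom.ker (aeval (pt k t) : D k →ₐ[k] k) := by
  have h1 : ∀ u : D k, u - C (aeval (pt k t) u) ∈ mt k t := by
    intro u
    induction u using MvPolynomial.induction_on with
    | C a => simp
    | add p q hp hq =>
      have e : p + q - C (aeval (pt k t) (p + q)) = (p - C (aeval (pt k t) p)) +
          (q - C (aeval (pt k t) q)) := by
        rw [map_add, C_add]; ring
      rw [e]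
      exact Ideal.add_mem _ hp hq
    | mul_X p n hp =>
      have hn : X n - C (aeval (pt k t) (X n : D k)) ∈ mt k t := by
        apply Ideal.subset_span
        fin_cases n <;> simp [pt]
      have e : p * X n - C (aeval (pt k t) (p * X n)) = (p - C (aeval (pt k t) p)) * X n +
          C (aeval (pt k t) p) * (X n - C (aeval (pt k t) (X n : D k))) := by
        rw [map_mul, C_mul]; ring
      rw [e]
      exact Ideal.add_mem _ (Ideal.mul_mem_right _ _ hp) (Ideal.mul_mem_left _ _ hn)
  apply le_antisymm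
  · rw [mt, Ideal.span_le]
    rintro x (rfl | rfl | rfl | rfl | rfl | rfl | rfl | rfl | rfl) <;>
      simp [pt, RingHom.mem_ker]
  · intro u hu
    have := h1 u
    rw [RingHom.mem_ker] at hu
    rwa [hu, C_0, sub_zero] at this

theorem mt_isMaximal (t : k) : (mt k t).IsMaximal := by
  rw [mt_eq_ker]
  apply RingHom.ker_isMaximal_of_surjective
  intro a
  exact ⟨C a, by simp⟩

theorem idJ_le_mt (t : k) : idJ k ≤ mt k t := by
  rw [mt_eq_ker, idJ, Ideal.span_le]
  rintro x (rfl | rfl | rfl | rfl) <;>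
    simp [pt, RingHom.mem_ker, Q1, Q2, Q3, detM]

variable {k}

theorem six_gens {B : Type*} [CommRing B] (φ : D k →+* B) (t : k)
    (hφJ : ∀ u ∈ idJ k, φ u = 0) (hφunit : ∀ u : D k, aeval (pt k t) u ≠ 0 → IsUnit (φ u)) :
    ((mt k t).map φ).spanFinrank ≤ 6 := by
  have hφI : ∀ u ∈ idI k, φ u = 0 := fun u hu => hφJ u (idI_le_idJ hu)
  -- the six parameters
  set S : Set B := {φ (X 0), φ (X 1 - 1), φ (X 2), φ (X 4), φ (X 5 - C t), φ (X 7)} with hS
  have hSa : φ (X 0) ∈ Ideal.span S := Ideal.subset_span (by simp [hS])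
  have hSc : φ (X 2) ∈ Ideal.span S := Ideal.subset_span (by simp [hS])
  have hSe : φ (X 4) ∈ Ideal.span S := Ideal.subset_span (by simp [hS])
  have hSh : φ (X 7) ∈ Ideal.span S := Ideal.subset_span (by simp [hS])
  have hunit_mem : ∀ (u : D k) (v : B), aeval (pt k t) u ≠ 0 → φ u * v ∈ Ideal.span S →
      v ∈ Ideal.span S := by
    intro u v hu h
    exact (Ideal.unit_mul_mem_iff_mem _ (hφunit u hu)).1 h
  have hSd : φ (X 3) ∈ Ideal.span S := by
    refine hunit_mem (X 1) _ (by simp [pt]) ?_
    have e : φ (X 1) * φ (X 3) = φ (X 5) * φ (X 7) + φ (X 4) * φ (X 0) - φ (X 8) * φ (X 4) := by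
      have h := hφI _ Q2_mem_idI
      simp only [Q2, map_add, map_sub, map_mul] at h
      linear_combination h
    rw [e]
    exact Ideal.sub_mem _ (Ideal.add_mem _ (Ideal.mul_mem_left _ _ hSh)
      (Ideal.mul_mem_left _ _ hSa)) (Ideal.mul_mem_left _ _ hSe)
  have hSi : φ (X 8) ∈ Ideal.span S := by
    refine hunit_mem (X 1) _ (by simp [pt]) ?_
    have e : φ (X 1) * φ (X 8) = φ (X 2) * φ (X 7) + φ (X 2) * φ (X 3) - φ (X 5) * φ (X 0) := by
      have h := hφI _ Q3_mem_idI
      simp only [Q3, map_add, map_sub, map_mul] at h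
      linear_combination -h
    rw [e]
    exact Ideal.sub_mem _ (Ideal.add_mem _ (Ideal.mul_mem_left _ _ hSh)
      (Ideal.mul_mem_left _ _ hSd)) (Ideal.mul_mem_left _ _ hSa)
  have hSg : φ (X 6) ∈ Ideal.span S := by
    by_cases ht : t = 0
    · refine hunit_mem (X 1 + X 5) _ (by simp [pt, ht]) ?_
      have e : φ (X 1 + X 5) * φ (X 6) = φ (X 7) * φ (X 0) + φ (X 8) * φ (X 3) := by
        have h := hφI _ Q1_mem_idI
        simp only [Q1, map_add, map_sub, map_mul] at h ⊢
        linear_combination -h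
      rw [e]
      exact Ideal.add_mem _ (Ideal.mul_mem_left _ _ hSa) (Ideal.mul_mem_left _ _ hSd)
    · refine hunit_mem (X 1 * X 5 - X 4 * X 2) _ (by simp [pt, ht]) ?_
      have e : φ (X 1 * X 5 - X 4 * X 2) * φ (X 6) = φ (X 7) ^ 2 * φ (X 2) -
          φ (X 8) ^ 2 * φ (X 4) - φ (X 1) * φ (X 8) * φ (X 7) + φ (X 8) * φ (X 5) * φ (X 7) := by
        have h := hφJ _ detM_mem_idJ
        simp only [detM, map_add, map_sub, map_mul, map_neg, map_pow] at h ⊢
        linear_combination h
      rw [e]
      exact Ideal.add_mem _ (Ideal.sub_mem _ (Ideal.sub_mem _ (Ideal.mul_mem_left _ _ hSc)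
        (Ideal.mul_mem_left _ _ hSe)) (Ideal.mul_mem_left _ _ hSh)) (Ideal.mul_mem_left _ _ hSh)
  have hmS : (mt k t).map φ = Ideal.span S := by
    rw [mt, Ideal.map_span]
    apply le_antisymm
    · rw [Ideal.span_le]
      rintro _ ⟨x, (rfl | rfl | rfl | rfl | rfl | rfl | rfl | rfl | rfl), rfl⟩
      · exact hSa
      · exact Ideal.subset_span (by simp [hS])
      · exact hSc
      · exact hSd
      · exact hSe
      · exact Ideal.subset_span (by simp [hS])
      · exact hSg
      · exact hSh
      · exact hSi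
    · apply Ideal.span_mono
      rintro x (rfl | rfl | rfl | rfl | rfl | rfl) <;> exact ⟨_, by simp, rfl⟩
  rw [hmS]
  have hfin : S.Finite := by rw [hS]; exact Set.toFinite _
  have h1 : (Ideal.span S).spanFinrank ≤ S.ncard := Submodule.spanFinrank_span_le_ncard_of_finite hfin
  have h2 : S.ncard ≤ 6 := by
    rw [hS]
    refine (Set.ncard_insert_le _ _).trans ?_
    refine (Nat.add_le_add_right (Set.ncard_insert_le _ _) 1).trans ?_
    refine (Nat.add_le_add_right (Nat.add_le_add_right (Set.ncard_insert_le _ _) 1) 1).trans ?_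
    refine (Nat.add_le_add_right (Nat.add_le_add_right (Nat.add_le_add_right
      (Set.ncard_insert_le _ _) 1) 1) 1).trans ?_
    refine (Nat.add_le_add_right (Nat.add_le_add_right (Nat.add_le_add_right
      (Nat.add_le_add_right (Set.ncard_insert_le _ _) 1) 1) 1) 1).trans ?_
    rw [Set.ncard_singleton]
  exact h1.trans h2

theorem spanFinrank_le (t : k) (P : Ideal (BJ k)) [P.IsPrime]
    (hP : P = Ideal.map (Ideal.Quotient.mk (idJ k)) (mt k t)) (B : Type u) [CommRing B]
    [IsLocalRing B] [Algebra (BJ k) B] [IsLocalization.AtPrime B P] :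
    (IsLocalRing.maximalIdeal B).spanFinrank ≤ 6 := by
  have hφJ : ∀ u ∈ idJ k, ((algebraMap (BJ k) B).comp (Ideal.Quotient.mk (idJ k))) u = 0 := by
    intro u hu
    rw [RingHom.comp_apply, Ideal.Quotient.eq_zero_iff_mem.2 hu, map_zero]
  have hφunit : ∀ u : D k, aeval (pt k t) u ≠ 0 →
      IsUnit (((algebraMap (BJ k) B).comp (Ideal.Quotient.mk (idJ k))) u) := by
    intro u hu
    rw [RingHom.comp_apply]
    have hmem : Ideal.Quotient.mk (idJ k) u ∈ P.primeCompl := by
      intro h
      apply hu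
      have h1 : u ∈ (Ideal.map (Ideal.Quotient.mk (idJ k)) (mt k t)).comap
          (Ideal.Quotient.mk (idJ k)) := by
        rw [Ideal.mem_comap, ← hP]
        exact h
      rw [Ideal.comap_map_of_surjective _ Ideal.Quotient.mk_surjective, ← RingHom.ker_eq_comap_bot,
        Ideal.mk_ker, sup_eq_left.2 (idJ_le_mt k t), mt_eq_ker] at h1
      exact h1
    exact IsLocalization.map_units B (⟨Ideal.Quotient.mk (idJ k) u, hmem⟩ : P.primeCompl)
  have hmaxB : IsLocalRing.maximalIdeal B =
      (mt k t).map ((algebraMap (BJ k) B).comp (Ideal.Quotient.mk (idJ k))) := by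
    rw [← Ideal.map_map, ← hP]
    exact (IsLocalization.AtPrime.map_eq_maximalIdeal P B).symm
  rw [hmaxB]
  exact six_gens _ t hφJ hφunit

theorem isMaximal_of_eq (t : k) (P : Ideal (BJ k)) [P.IsPrime]
    (hP : P = Ideal.map (Ideal.Quotient.mk (idJ k)) (mt k t)) : P.IsMaximal := by
  rcases Ideal.map_eq_top_or_isMaximal_of_surjective (Ideal.Quotient.mk (idJ k))
    Ideal.Quotient.mk_surjective (mt_isMaximal k t) with h | h
  · exact absurd (hP.trans h) Ideal.IsPrime.ne_top'
  · rwa [hP]

theorem isNoetherianRing_atPrime (P : Ideal (BJ k)) [P.IsPrime] :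
    IsNoetherianRing (Localization.AtPrime P) :=
  IsLocalization.isNoetherianRing P.primeCompl _ (inferInstance : IsNoetherianRing (BJ k))

theorem main (t : k) (P : Ideal (BJ k)) [P.IsPrime]
    (hP : P = Ideal.map (Ideal.Quotient.mk (idJ k)) (mt k t)) :
    IsRegularLocalRing (Localization.AtPrime P) ∧ ringKrullDim (Localization.AtPrime P) = 6 := by
  have hmax := isMaximal_of_eq t P hP
  have hdim := krullDim_atPrime k P
  refine ⟨?_, hdim⟩
  have := isNoetherianRing_atPrime P
  apply IsRegularLocalRing.of_spanFinrank_maximalIdeal_le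
  rw [hdim]
  exact_mod_cast spanFinrank_le t P hP (Localization.AtPrime P)

end K752.SmoothPt
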